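import Groth.Agent.UnitsLES64.Main

/-!
The kernel of restriction of line bundles when global functions lift.
-/

set_option autoImplicit false
set_option backward.isDefEq.respectTransparency false

universe u

open CategoryTheory CategoryTheory.Limits AlgebraicGeometry TopologicalSpace Opposite

noncomputable section

namespace Groth.Agent.UnitsLES64

/-- A surjection with square-zero kernel is surjective on units. -/
theorem units_map_surjective {R S : Type*} [CommRing R] [CommRing S] (f : R →+* S)
    (hf : Function.Surjective f) (h : ∀ a, f a = 0 → IsNilpotent a) :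
    Function.Surjective (Units.map f.toMonoidHom) := by
  intro u
  obtain ⟨a, ha⟩ := hf u.val
  obtain ⟨b, hb⟩ := hf u.inv
  have hn : IsNilpotent (a * b - 1) := h _ (by rw [map_sub, map_mul, ha, hb, u.val_inv, map_one, sub_self])
  have hu : IsUnit (a * b) := by simpa using hn.isUnit_add_one
  exact ⟨(isUnit_of_mul_isUnit_left hu).unit, Units.ext ha⟩

theorem nonempty_ker_mulEquiv (X : Scheme.{u}) (J : X.IdealSheafData) (hJ : J * J = ⊥)
    [PicGrp.Law X] [PicGrp.Law J.subscheme] (hi : PicGrp.PullMul J.subschemeι)
    (hsurj : Function.Surjective J.subschemeι.appTop.hom) :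
    Nonempty ((PicGrp.pullHom J.subschemeι hi).ker ≃* Multiplicative (Coh.HH X (ClSub.idealMod J) 1)) := by
  obtain ⟨ε, δ₀, α, δ₁, -, -, h₀, hα, hker, -⟩ := exists_exact X J hJ hi
  have haff : ∀ (U : X.affineOpens) (a b : Γ(X, U.1)), J.subschemeι.app U.1 a = 0 →
      J.subschemeι.app U.1 b = 0 → a * b = 0 := by
    intro U a b ha hb
    have hk : ∀ c : Γ(X, U.1), J.subschemeι.app U.1 c = 0 → c ∈ J.ideal U := fun c hc => by
      rw [← J.ker_subschemeι_app U]; exact hc
    have h := Ideal.mul_mem_mul (hk a ha) (hk b hb)
    have e : J.ideal U * J.ideal U = ⊥ := by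
      have := congrArg (fun I : X.IdealSheafData => I.ideal U) hJ
      simpa using this
    rw [e] at h
    exact h
  have hus : Function.Surjective (Units.map J.subschemeι.appTop.hom.toMonoidHom) :=
    units_map_surjective _ hsurj fun a ha => ⟨2, by
      rw [pow_two]; exact Units47.mul_eq_zero_of_affine J.subschemeι haff ⊤ a a ha ha⟩
  have hinj : Function.Injective α := by
    rw [← MonoidHom.ker_eq_bot_iff, hα, eq_bot_iff]
    rintro _ ⟨v, rfl⟩
    have hv : v ∈ δ₀.ker := by
      rw [h₀, MonoidHom.range_eq_top.2 hus]
      trivial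
    exact hv
  exact ⟨(MulEquiv.subgroupCongr hker).trans (MonoidHom.ofInjective hinj).symm⟩

end Groth.Agent.UnitsLES64
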