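import Groth.Agent.UnitsLES64.Nat
import Groth.Agent.Units47.Seq
import Groth.Agent.Desc59.Pic.SqZeroSurj
import Groth.Prelude.Def_Coh

/-!
The exact sequence of units and Picard groups of a first order thickening.
-/

set_option autoImplicit false
set_option backward.isDefEq.respectTransparency false

universe u

open CategoryTheory CategoryTheory.Limits AlgebraicGeometry TopologicalSpace Opposite

noncomputable section

namespace Groth.Agent.UnitsLES64

theorem exists_exact (X' : Scheme.{u}) (I : X'.IdealSheafData) (hI : I * I = ⊥)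
    [PicGrp.Law X'] [PicGrp.Law I.subscheme] (hi : PicGrp.PullMul I.subschemeι) :
    ∃ (ε : Multiplicative (Coh.HH X' (ClSub.idealMod I) 0) →* (Γ(X', ⊤))ˣ)
      (δ₀ : (Γ(I.subscheme, ⊤))ˣ →* Multiplicative (Coh.HH X' (ClSub.idealMod I) 1))
      (α : Multiplicative (Coh.HH X' (ClSub.idealMod I) 1) →* PicLoc.PicSet X')
      (δ₁ : PicLoc.PicSet I.subscheme →* Multiplicative (Coh.HH X' (ClSub.idealMod I) 2)),
      Function.Injective ε ∧
      (Units.map I.subschemeι.appTop.hom.toMonoidHom).ker = ε.range ∧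
      δ₀.ker = (Units.map I.subschemeι.appTop.hom.toMonoidHom).range ∧
      α.ker = δ₀.range ∧
      (PicGrp.pullHom I.subschemeι hi).ker = α.range ∧
      δ₁.ker = (PicGrp.pullHom I.subschemeι hi).range := by
  let i := I.subschemeι
  obtain ⟨φ, -, w, hS⟩ := Units47.exists_shortExact I hI
  obtain ⟨Φ, ι, hι, hnat⟩ := exists_classMaps i (Desc59.Pic.surjective_subschemeι I hI) hi
  let S : ShortComplex (CohTop.Ab X'.toTopCat) := ShortComplex.mk φ (UnitsSh.comap i) w
  have hSe : S.ShortExact := hS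
  let hT : IsTerminal (⊤ : X'.Opens) := Preorder.isTerminalTop _
  let E : ∀ n, Coh.HH X' (ClSub.idealMod I) n ≃+ Coh69.HE S.X₁ n (⊤ : X'.Opens) :=
    fun n => Coh69.hTerminalEquiv hT (Coh.toAb (ClSub.idealMod I)) n
  let sectX : Additive (Γ(X', ⊤))ˣ →+ S.X₂.obj.obj (op (⊤ : X'.Opens)) := AddMonoidHom.id _
  let e0 : Coh.HH X' (ClSub.idealMod I) 0 →+ Additive (Γ(X', ⊤))ˣ :=
    (S.f.hom.app (op (⊤ : X'.Opens))).hom.comp
      ((E 0).trans (Coh69.he0Equiv S.X₁ (⊤ : X'.Opens))).toAddMonoidHom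
  let res0 : Additive (Γ(X', ⊤))ˣ →+ Additive (Γ(I.subscheme, ⊤))ˣ :=
    (Units.map i.appTop.hom.toMonoidHom).toAdditive
  have hres : ∀ a, (res0 a : S.X₃.obj.obj (op (⊤ : X'.Opens))) = S.g.hom.app (op (⊤ : X'.Opens)) a :=
    fun a => rfl
  let d0 : Additive (Γ(I.subscheme, ⊤))ˣ →+ Coh.HH X' (ClSub.idealMod I) 1 :=
    (E 1).symm.toAddMonoidHom.comp (delta hSe (⊤ : X'.Opens))
  let a1 : Coh.HH X' (ClSub.idealMod I) 1 →+ Additive (PicLoc.PicSet X') :=
    (Φ.symm.toAddMonoidHom.comp (hmap S.f 1 (⊤ : X'.Opens))).comp (E 1).toAddMonoidHom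
  let d1 : Additive (PicLoc.PicSet I.subscheme) →+ Coh.HH X' (ClSub.idealMod I) 2 :=
    ((E 2).symm.toAddMonoidHom.comp (conn hSe 1 (⊤ : X'.Opens))).comp ι
  refine ⟨AddMonoidHom.toMultiplicativeLeft e0, AddMonoidHom.toMultiplicativeRight d0,
    AddMonoidHom.toMultiplicativeLeft a1, AddMonoidHom.toMultiplicativeRight d1, ?_, ?_, ?_, ?_, ?_, ?_⟩
  · intro a b h
    have h' : e0 a.toAdd = e0 b.toAdd := congrArg Additive.ofMul h
    exact Multiplicative.toAdd.injective
      (((E 0).trans (Coh69.he0Equiv S.X₁ (⊤ : X'.Opens))).injective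
        (Coh69.sect_injective hSe (⊤ : X'.Opens) h'))
  · ext a
    rw [MonoidHom.mem_ker, MonoidHom.mem_range]
    constructor
    · intro ha
      have h0 : S.g.hom.app (op (⊤ : X'.Opens)) (Additive.ofMul a) = 0 := congrArg Additive.ofMul ha
      obtain ⟨t, ht⟩ := Coh69.sect_exact hSe (⊤ : X'.Opens) _ h0
      refine ⟨Multiplicative.ofAdd (((E 0).trans (Coh69.he0Equiv S.X₁ (⊤ : X'.Opens))).symm t), ?_⟩
      show (e0 _).toMul = a
      refine congrArg Additive.toMul ((congrArg (S.f.hom.app (op (⊤ : X'.Opens))).hom ?_).trans ht)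
      exact ((E 0).trans (Coh69.he0Equiv S.X₁ (⊤ : X'.Opens))).apply_symm_apply t
    · rintro ⟨b, rfl⟩
      exact congrArg Additive.toMul (Coh69.sect_f_g S (⊤ : X'.Opens)
        (((E 0).trans (Coh69.he0Equiv S.X₁ (⊤ : X'.Opens))) b.toAdd))
  · ext v
    rw [MonoidHom.mem_ker, MonoidHom.mem_range]
    have h1 : d0 (Additive.ofMul v) = 0 ↔ ∃ t, S.g.hom.app (op (⊤ : X'.Opens)) t = Additive.ofMul v :=
      ((E 1).symm.map_eq_zero_iff).trans (delta_eq_zero_iff hSe (⊤ : X'.Opens) _)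
    constructor
    · intro hv
      obtain ⟨t, ht⟩ := h1.1 (congrArg Multiplicative.toAdd hv)
      exact ⟨Additive.toMul t, congrArg Additive.toMul ht⟩
    · rintro ⟨a, rfl⟩
      exact congrArg Multiplicative.ofAdd (h1.2 ⟨Additive.ofMul a, rfl⟩)
  · ext x
    rw [MonoidHom.mem_ker, MonoidHom.mem_range]
    have h1 : a1 x.toAdd = 0 ↔ ∃ s, delta hSe (⊤ : X'.Opens) s = E 1 x.toAdd :=
      (Φ.symm.map_eq_zero_iff).trans (hmap_f_eq_zero_iff hSe (⊤ : X'.Opens) _)
    constructor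
    · intro hx
      obtain ⟨s, hs⟩ := h1.1 (congrArg Additive.ofMul hx)
      refine ⟨Additive.toMul s, congrArg Multiplicative.ofAdd ?_⟩
      show (E 1).symm (delta hSe (⊤ : X'.Opens) s) = x.toAdd
      rw [hs, AddEquiv.symm_apply_apply]
    · rintro ⟨v, rfl⟩
      exact congrArg Additive.toMul (h1.2 ⟨Additive.ofMul v, ((E 1).apply_symm_apply _).symm⟩)
  · ext c
    rw [MonoidHom.mem_ker, MonoidHom.mem_range]
    have h1 : PicGrp.pullHom i hi c = 1 ↔ hmap S.g 1 (⊤ : X'.Opens) (Φ (Additive.ofMul c)) = 0 := by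
      refine Iff.trans ⟨fun h => ?_, fun h => ?_⟩ (Eq.congr_left (hnat (Additive.ofMul c)))
      · exact (congrArg (fun z => ι (Additive.ofMul z)) h).trans (map_zero ι)
      · exact congrArg Additive.toMul (hι (h.trans (map_zero ι).symm))
    rw [h1, hmap_g_eq_zero_iff hSe 1 (⊤ : X'.Opens)]
    constructor
    · rintro ⟨y, hy⟩
      refine ⟨Multiplicative.ofAdd ((E 1).symm y), congrArg Additive.toMul (a₂ := Additive.ofMul c) ?_⟩
      show Φ.symm (hmap S.f 1 (⊤ : X'.Opens) (E 1 ((E 1).symm y))) = _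
      rw [AddEquiv.apply_symm_apply, hy]
      exact Φ.symm_apply_apply _
    · rintro ⟨b, rfl⟩
      exact ⟨E 1 b.toAdd, (Φ.apply_symm_apply _).symm⟩
  · ext p
    rw [MonoidHom.mem_ker, MonoidHom.mem_range]
    have h1 : d1 (Additive.ofMul p) = 0 ↔ ∃ y, hmap S.g 1 (⊤ : X'.Opens) y = ι (Additive.ofMul p) :=
      ((E 2).symm.map_eq_zero_iff).trans (conn_eq_zero_iff hSe 1 (⊤ : X'.Opens) _)
    constructor
    · intro hp
      obtain ⟨y, hy⟩ := h1.1 (congrArg Multiplicative.toAdd hp)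
      refine ⟨(Φ.symm y).toMul, congrArg Additive.toMul (a₂ := Additive.ofMul p) (hι ?_)⟩
      refine (hnat (Φ.symm y)).trans ?_
      rw [AddEquiv.apply_symm_apply]
      exact hy
    · rintro ⟨c, rfl⟩
      exact congrArg Multiplicative.ofAdd (h1.2 ⟨Φ (Additive.ofMul c), (hnat (Additive.ofMul c)).symm⟩)

end Groth.Agent.UnitsLES64
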