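import Groth.Agent.UnitsLES64.MV
import Groth.Agent.CohFlat58.General
import Groth.Prelude.Def_PicGrp

/-!
Line bundles on the union of two closed subschemes, modulo the base.
-/

set_option autoImplicit false
set_option backward.isDefEq.respectTransparency false

universe u

open CategoryTheory CategoryTheory.Limits AlgebraicGeometry TopologicalSpace Opposite

noncomputable section

namespace Groth.Agent.UnitsLES64

open PicH1x97

/-- The class map of the ambient space, natural for closed immersions. -/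
theorem exists_baseMap (X : Scheme.{u}) [PicGrp.Law X] :
    ∃ Φ : Additive (PicLoc.PicSet X) →+ Coh69.HE (UnitsSh.unitsAb X) 1 (⊤ : X.Opens),
      Function.Bijective Φ ∧ ∀ {B : Scheme.{u}} [PicGrp.Law B] (b : B ⟶ X) [IsClosedImmersion b]
        (hb : PicGrp.PullMul b) (ΦB : Additive (PicLoc.PicSet B) →+ HU b), IsClassMap b ΦB →
        ∀ c : PicLoc.PicSet X, ΦB (Additive.ofMul (PicGrp.pullHom b hb c)) =
          hmap (UnitsSh.comap b) 1 ⊤ (Φ (Additive.ofMul c)) := by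
  have hSX := SiteCoh.injSES_shortExact (UnitsSh.unitsAb X)
  have hsub : Subsingleton (Coh69.HE (ses X).X₂ 1 (⊤ : X.Opens)) :=
    Coh69.he_subsingleton_of_injective (ses X).X₂ 0 _
  obtain ⟨P, hP, hPr⟩ := exists_pcl (X := X)
  let dX : (Qsec X ⊤ ⧸ imTop X) →+ Coh69.HE (UnitsSh.unitsAb X) 1 (⊤ : X.Opens) :=
    QuotientAddGroup.lift (imTop X) (delta hSX ⊤) fun s hs => (delta_eq_zero_iff hSX ⊤ s).2 hs
  have hdX : Function.Bijective dX := by
    refine ⟨(injective_iff_map_eq_zero dX).2 fun z hz => ?_, fun y => ?_⟩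
    · obtain ⟨s, rfl⟩ := QuotientAddGroup.mk'_surjective (imTop X) z
      exact (QuotientAddGroup.eq_zero_iff s).2 ((delta_eq_zero_iff hSX ⊤ s).1 hz)
    · obtain ⟨s, rfl⟩ := delta_surjective hSX ⊤ y
      exact ⟨QuotientAddGroup.mk' _ s, rfl⟩
  refine ⟨dX.comp P, hdX.comp hP, fun {B} _ b _ hb ΦB hΦB c => ?_⟩
  have := (pushSES_spec' b).2
  let τ₂ : (ses X).X₂ ⟶ (pushSES b).X₂ :=
    Injective.factorThru (UnitsSh.comap b ≫ (pushSES b).f) (ses X).f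
  have hτ₂ : (ses X).f ≫ τ₂ = UnitsSh.comap b ≫ (pushSES b).f := Injective.comp_factorThru _ _
  let τ₃ : (ses X).X₃ ⟶ (pushSES b).X₃ := cokernel.desc _ (τ₂ ≫ (pushSES b).g) (by
    show (ses X).f ≫ τ₂ ≫ (pushSES b).g = 0
    rw [reassoc_of% hτ₂, (pushSES b).zero, comp_zero])
  let ψ : ses X ⟶ pushSES b :=
    { τ₁ := UnitsSh.comap b, τ₂ := τ₂, τ₃ := τ₃, comm₁₂ := hτ₂.symm, comm₂₃ := (cokernel.π_desc _ _ _).symm }
  obtain ⟨L, hL, rfl⟩ := PicGrp.exists_eq_cls c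
  obtain ⟨q, hq⟩ := exists_rel hL
  rw [PicGrp.pullHom_cls b hb L hL, hΦB.2 _ _ _ (rel_pullback b ψ rfl hL hq)]
  show _ = hmap (UnitsSh.comap b) 1 ⊤ (dX (P (Additive.ofMul (PicGrp.cls L hL))))
  rw [hPr L hL q hq]
  exact delta_natural hSX (pushSES_spec' b).1 ψ (⊤ : X.Opens) q

theorem hmap_comp {X : Scheme.{u}} {P Q R : CohTop.Ab X.toTopCat} (φ : P ⟶ Q) (χ : Q ⟶ R) (n : ℕ) (U : X.Opens)
    (x : Coh69.HE P n U) : hmap (φ ≫ χ) n U x = hmap χ n U (hmap φ n U x) := by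
  rw [hmap_apply, hmap_apply, hmap_apply, Crv77.ext_comp_comp]

theorem hmap_add {X : Scheme.{u}} {P Q : CohTop.Ab X.toTopCat} (φ χ : P ⟶ Q) (n : ℕ) (U : X.Opens)
    (x : Coh69.HE P n U) : hmap (φ + χ) n U x = hmap φ n U x + hmap χ n U x := by
  rw [hmap_apply, hmap_apply, hmap_apply, CategoryTheory.Abelian.Ext.mk₀_add, CategoryTheory.Abelian.Ext.comp_add]

theorem hmap_id {X : Scheme.{u}} {P : CohTop.Ab X.toTopCat} (n : ℕ) (U : X.Opens)
    (x : Coh69.HE P n U) : hmap (𝟙 P) n U x = x := by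
  rw [hmap_apply, CategoryTheory.Abelian.Ext.comp_mk₀_id]

theorem hmap_neg {X : Scheme.{u}} {P Q : CohTop.Ab X.toTopCat} (φ : P ⟶ Q) (n : ℕ) (U : X.Opens)
    (x : Coh69.HE P n U) : hmap (-φ) n U x = - hmap φ n U x := by
  rw [hmap_apply, hmap_apply, CategoryTheory.Abelian.Ext.mk₀_neg, CategoryTheory.Abelian.Ext.comp_neg]

variable {X : Scheme.{u}} (I J : X.IdealSheafData)

theorem pullHom_comp' {A B C : Scheme.{u}} [PicGrp.Law A] [PicGrp.Law B] [PicGrp.Law C] (g : A ⟶ B) (b : B ⟶ C)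
    (a : A ⟶ C) (e : g ≫ b = a) (hg : PicGrp.PullMul g) (hb : PicGrp.PullMul b) (ha : PicGrp.PullMul a)
    (c : PicLoc.PicSet C) : PicGrp.pullHom g hg (PicGrp.pullHom b hb c) = PicGrp.pullHom a ha c := by
  subst e
  exact (PicGrp.pullHom_comp_apply g b hg hb ha c).symm

theorem eq_one_and_glue [PicGrp.Law X] [PicGrp.Law I.subscheme] [PicGrp.Law J.subscheme]
    [PicGrp.Law (I ⊔ J).subscheme] (hIJ : I ⊓ J = ⊥) (hY : PicGrp.PullMul I.subschemeι)
    (hZ : PicGrp.PullMul J.subschemeι) (hWY : PicGrp.PullMul (gL I J)) (hWZ : PicGrp.PullMul (gR I J))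
    (hlift : ∀ v : Γ((I ⊔ J).subscheme, (⊤ : (I ⊔ J).subscheme.Opens))ˣ,
      ∃ a : Γ(I.subscheme, (⊤ : I.subscheme.Opens))ˣ, Units.map (gL I J).appTop.hom.toMonoidHom a = v) :
    (∀ c : PicLoc.PicSet X, PicGrp.pullHom I.subschemeι hY c = 1 → PicGrp.pullHom J.subschemeι hZ c = 1 → c = 1) ∧
      ∀ (y : PicLoc.PicSet I.subscheme) (z : PicLoc.PicSet J.subscheme),
        PicGrp.pullHom (gL I J) hWY y = PicGrp.pullHom (gR I J) hWZ z →
          ∃ c, PicGrp.pullHom I.subschemeι hY c = y ∧ PicGrp.pullHom J.subschemeι hZ c = z := by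
  have hmv := mv_shortExact hIJ
  obtain ⟨Φ, hΦ, hnat⟩ := exists_baseMap X
  obtain ⟨ΦY, hΦY⟩ := exists_isClassMap I.subschemeι
  obtain ⟨ΦZ, hΦZ⟩ := exists_isClassMap J.subschemeι
  obtain ⟨ΦW, hΦW⟩ := exists_isClassMap (I ⊔ J).subschemeι
  have hF1 : ∀ c : PicLoc.PicSet X, hmap (biprod.fst : UYZ I J ⟶ UY I) 1 ⊤ (hmap (mvF I J) 1 ⊤ (Φ (Additive.ofMul c))) =
      ΦY (Additive.ofMul (PicGrp.pullHom I.subschemeι hY c)) := fun c => by
    rw [← hmap_comp, biprod.lift_fst, hnat I.subschemeι hY ΦY hΦY c]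
  have hF2 : ∀ c : PicLoc.PicSet X, hmap (biprod.snd : UYZ I J ⟶ UY J) 1 ⊤ (hmap (mvF I J) 1 ⊤ (Φ (Additive.ofMul c))) =
      ΦZ (Additive.ofMul (PicGrp.pullHom J.subschemeι hZ c)) := fun c => by
    rw [← hmap_comp, biprod.lift_snd, hnat J.subschemeι hZ ΦZ hΦZ c]
  have hext : ∀ m m' : Coh69.HE (UYZ I J) 1 (⊤ : X.Opens),
      hmap (biprod.fst : UYZ I J ⟶ UY I) 1 ⊤ m = hmap (biprod.fst : UYZ I J ⟶ UY I) 1 ⊤ m' →
      hmap (biprod.snd : UYZ I J ⟶ UY J) 1 ⊤ m = hmap (biprod.snd : UYZ I J ⟶ UY J) 1 ⊤ m' → m = m' := by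
    intro m m' h₁ h₂
    have e : ∀ n : Coh69.HE (UYZ I J) 1 (⊤ : X.Opens),
        hmap (biprod.inl : UY I ⟶ UYZ I J) 1 ⊤ (hmap (biprod.fst : UYZ I J ⟶ UY I) 1 ⊤ n) +
          hmap (biprod.inr : UY J ⟶ UYZ I J) 1 ⊤ (hmap (biprod.snd : UYZ I J ⟶ UY J) 1 ⊤ n) = n := fun n => by
      rw [← hmap_comp, ← hmap_comp, ← hmap_add, biprod.total, hmap_id]
    rw [← e m, ← e m', h₁, h₂]
  refine ⟨fun c hcY hcZ => ?_, fun y z hyz => ?_⟩
  · have h0 : hmap (mvF I J) 1 ⊤ (Φ (Additive.ofMul c)) = 0 := by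
      refine hext _ _ ?_ ?_
      · rw [hF1, hcY, map_zero]; exact map_zero ΦY
      · rw [hF2, hcZ, map_zero]; exact map_zero ΦZ
    obtain ⟨v, hv⟩ := (hmap_f_eq_zero_iff hmv (⊤ : X.Opens) _).1 h0
    obtain ⟨a, ha⟩ := hlift (UnitsSh.unitOfSect (O := (I ⊔ J).subscheme.presheaf) (U := op ⊤) v)
    have hv0 : delta hmv (⊤ : X.Opens) v = 0 := by
      refine (delta_eq_zero_iff hmv (⊤ : X.Opens) v).2
        ⟨(biprod.inl : UY I ⟶ UYZ I J).hom.app (op (⊤ : X.Opens))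
          (UnitsSh.sectOfUnit (O := I.subscheme.presheaf) (U := op ⊤) a), ?_⟩
      have e : (biprod.inl : UY I ⟶ UYZ I J) ≫ mvG I J = rho (gL_comp I J) := biprod.inl_desc _ _
      rw [← app_comp, e]
      refine (rho_app (gL_comp I J) ⊤ a).trans (congrArg Additive.ofMul (Units.ext ?_))
      refine Eq.trans ?_ (congrArg Units.val ha)
      show (gL I J).appLE ⊤ ⊤ _ a.val = (gL I J).app ⊤ a.val
      rw [Scheme.Hom.app_eq_appLE]
      rfl
    have hc0 : Φ (Additive.ofMul c) = 0 := hv.symm.trans hv0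
    exact congrArg Additive.toMul (hΦ.1 (hc0.trans (map_zero Φ).symm))
  · let m : Coh69.HE (UYZ I J) 1 (⊤ : X.Opens) :=
      hmap (biprod.inl : UY I ⟶ UYZ I J) 1 ⊤ (ΦY (Additive.ofMul y)) +
        hmap (biprod.inr : UY J ⟶ UYZ I J) 1 ⊤ (ΦZ (Additive.ofMul z))
    have hWy : ΦW (Additive.ofMul (PicGrp.pullHom (gL I J) hWY y)) =
        hmap (rho (gL_comp I J)) 1 ⊤ (ΦY (Additive.ofMul y)) :=
      isClassMap_natural_of_eq (gL_comp I J) hWY hΦW hΦY y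
    have hWz : ΦW (Additive.ofMul (PicGrp.pullHom (gR I J) hWZ z)) =
        hmap (rho (gR_comp I J)) 1 ⊤ (ΦZ (Additive.ofMul z)) :=
      isClassMap_natural_of_eq (gR_comp I J) hWZ hΦW hΦZ z
    have hm : hmap (mvG I J) 1 ⊤ m = 0 := by
      rw [map_add, ← hmap_comp, ← hmap_comp, biprod.inl_desc, biprod.inr_desc, hmap_neg]
      refine Eq.trans (congrArg₂ (fun a b => a + -b) hWy.symm hWz.symm) ?_
      rw [hyz]
      exact add_neg_cancel _
    obtain ⟨x, hx⟩ := (hmap_g_eq_zero_iff hmv 1 (⊤ : X.Opens) m).1 hm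
    obtain ⟨c, rfl⟩ := hΦ.2 x
    refine ⟨c.toMul, congrArg Additive.toMul
      (a₁ := Additive.ofMul (PicGrp.pullHom I.subschemeι hY c.toMul)) (a₂ := Additive.ofMul y) (hΦY.1.1 ?_),
      congrArg Additive.toMul
      (a₁ := Additive.ofMul (PicGrp.pullHom J.subschemeι hZ c.toMul)) (a₂ := Additive.ofMul z) (hΦZ.1.1 ?_)⟩
    · rw [← hF1, show Additive.ofMul c.toMul = c from rfl, hx, map_add, ← hmap_comp, ← hmap_comp,
        biprod.inl_fst, biprod.inr_fst, hmap_id, hmap_apply (0 : UY J ⟶ UY I),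
        CategoryTheory.Abelian.Ext.mk₀_zero, CategoryTheory.Abelian.Ext.comp_zero, add_zero]
    · rw [← hF2, show Additive.ofMul c.toMul = c from rfl, hx, map_add, ← hmap_comp, ← hmap_comp,
        biprod.inl_snd, biprod.inr_snd, hmap_id, hmap_apply (0 : UY I ⟶ UY J),
        CategoryTheory.Abelian.Ext.mk₀_zero, CategoryTheory.Abelian.Ext.comp_zero, zero_add]

theorem cartesian {B : Scheme.{u}} (π : X ⟶ B) (hIJ : I ⊓ J = ⊥)
    [Flat ((I ⊔ J).subschemeι ≫ π)] [IsProper ((I ⊔ J).subschemeι ≫ π)]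
    [LocallyOfFinitePresentation ((I ⊔ J).subschemeι ≫ π)]
    (s : B ⟶ (I ⊔ J).subscheme) (hs : s ≫ (I ⊔ J).subschemeι ≫ π = 𝟙 B)
    (hiso : ∀ V : B.Opens, IsIso (((I ⊔ J).subschemeι ≫ π).app V))
    [PicGrp.Law B] [PicGrp.Law X] [PicGrp.Law I.subscheme] [PicGrp.Law J.subscheme] [PicGrp.Law (I ⊔ J).subscheme]
    (hπ : PicGrp.PullMul π) (hY : PicGrp.PullMul I.subschemeι) (hZ : PicGrp.PullMul J.subschemeι)
    (hπY : PicGrp.PullMul (I.subschemeι ≫ π)) (hπZ : PicGrp.PullMul (J.subschemeι ≫ π))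
    (hπW : PicGrp.PullMul ((I ⊔ J).subschemeι ≫ π))
    (hWY : PicGrp.PullMul (gL I J)) (hWZ : PicGrp.PullMul (gR I J)) :
    (∀ c : PicLoc.PicSet X,
        (∃ b₁ : PicLoc.PicSet B, PicGrp.pullHom I.subschemeι hY c = PicGrp.pullHom (I.subschemeι ≫ π) hπY b₁) →
        (∃ b₂ : PicLoc.PicSet B, PicGrp.pullHom J.subschemeι hZ c = PicGrp.pullHom (J.subschemeι ≫ π) hπZ b₂) →
          ∃ b : PicLoc.PicSet B, c = PicGrp.pullHom π hπ b) ∧
      (∀ (y : PicLoc.PicSet I.subscheme) (z : PicLoc.PicSet J.subscheme),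
        (∃ b : PicLoc.PicSet B,
            PicGrp.pullHom (gL I J) hWY y =
              PicGrp.pullHom (gR I J) hWZ z * PicGrp.pullHom ((I ⊔ J).subschemeι ≫ π) hπW b) →
          ∃ (c : PicLoc.PicSet X) (b₁ b₂ : PicLoc.PicSet B),
            PicGrp.pullHom I.subschemeι hY c = y * PicGrp.pullHom (I.subschemeι ≫ π) hπY b₁ ∧
              PicGrp.pullHom J.subschemeι hZ c = z * PicGrp.pullHom (J.subschemeι ≫ π) hπZ b₂) := by
  let q : (I ⊔ J).subscheme ⟶ B := (I ⊔ J).subschemeι ≫ π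
  have hlift : ∀ v : Γ((I ⊔ J).subscheme, (⊤ : (I ⊔ J).subscheme.Opens))ˣ,
      ∃ a : Γ(I.subscheme, (⊤ : I.subscheme.Opens))ˣ, Units.map (gL I J).appTop.hom.toMonoidHom a = v := by
    intro v
    have : IsIso q.appTop := hiso ⊤
    let w : Γ(B, (⊤ : B.Opens))ˣ := Units.map (inv q.appTop).hom.toMonoidHom v
    have hw : q.appTop w.val = v.val := by
      show ((inv q.appTop) ≫ q.appTop).hom v.val = v.val
      rw [IsIso.inv_hom_id]
      rfl
    refine ⟨Units.map (I.subschemeι ≫ π).appTop.hom.toMonoidHom w, Units.ext ?_⟩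
    show (((I.subschemeι ≫ π).appTop ≫ (gL I J).appTop)).hom w.val = v.val
    rw [← Scheme.Hom.comp_appTop, ← Category.assoc, gL_comp]
    exact hw
  obtain ⟨h1, h2⟩ := eq_one_and_glue I J hIJ hY hZ hWY hWZ hlift
  have eY : ∀ b, PicGrp.pullHom (gL I J) hWY (PicGrp.pullHom (I.subschemeι ≫ π) hπY b) = PicGrp.pullHom q hπW b :=
    fun b => pullHom_comp' _ _ q (by rw [← Category.assoc, gL_comp]) hWY hπY hπW b
  have eZ : ∀ b, PicGrp.pullHom (gR I J) hWZ (PicGrp.pullHom (J.subschemeι ≫ π) hπZ b) = PicGrp.pullHom q hπW b :=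
    fun b => pullHom_comp' _ _ q (by rw [← Category.assoc, gR_comp]) hWZ hπZ hπW b
  have hqinj : ∀ b b', PicGrp.pullHom q hπW b = PicGrp.pullHom q hπW b' → b = b' := by
    intro b b' h
    have hsq : ∀ d : PicLoc.PicSet B, PicF.pullCl s (PicF.pullCl q d.1) = d.1 := fun d => by
      obtain ⟨M, hM, rfl⟩ := PicGrp.exists_eq_cls d
      refine (PicGrp.cl_eq_cl_iff _ _).2 ⟨?_⟩
      exact (Scheme.Modules.pullbackComp s q).app M ≪≫ (Scheme.Modules.pullbackCongr hs).app M ≪≫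
        (Scheme.Modules.pullbackId B).app M
    refine Subtype.ext ?_
    have := congrArg (fun t : PicLoc.PicSet (I ⊔ J).subscheme => PicF.pullCl s t.1) h
    simp only [PicGrp.pullHom_apply_val] at this
    rw [hsq, hsq] at this
    exact this
  constructor
  · rintro c ⟨b₁, hb₁⟩ ⟨b₂, hb₂⟩
    have e : b₁ = b₂ := by
      refine hqinj _ _ ?_
      rw [← eY, ← eZ, ← hb₁, ← hb₂]
      refine Subtype.ext ?_
      show PicF.pullCl (gL I J) (PicF.pullCl I.subschemeι c.1) = PicF.pullCl (gR I J) (PicF.pullCl J.subschemeι c.1)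
      rw [← PicLoc.pullCl_comp, ← PicLoc.pullCl_comp, gL_comp, gR_comp]
    subst e
    refine ⟨b₁, mul_inv_eq_one.1 (h1 _ ?_ ?_)⟩
    · rw [map_mul, map_inv, hb₁, pullHom_comp' _ _ _ rfl hY hπ hπY b₁, mul_inv_cancel]
    · rw [map_mul, map_inv, hb₂, pullHom_comp' _ _ _ rfl hZ hπ hπZ b₁, mul_inv_cancel]
  · rintro y z ⟨b, hb⟩
    obtain ⟨c, hcy, hcz⟩ := h2 y (z * PicGrp.pullHom (J.subschemeι ≫ π) hπZ b) (by rw [map_mul, eZ]; exact hb)
    exact ⟨c, 1, b, by rw [hcy, map_one, mul_one], hcz⟩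

end Groth.Agent.UnitsLES64
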