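import Groth.Agent.Coh69.Sections
import Groth.Agent.Crv77.HH

/-!
The connecting map on sections of a short exact sequence of abelian sheaves.
-/

set_option autoImplicit false

universe u

open CategoryTheory Limits Opposite CategoryTheory.Abelian

noncomputable section

namespace Groth.Agent.UnitsLES64

open Coh69 (HE he0Equiv)

variable {C : Type u} [SmallCategory C] {J : GrothendieckTopology C}

/-- Composition with a morphism of sheaves on cohomology. -/
abbrev hmap {F G : Sheaf J AddCommGrpCat.{u}} (φ : F ⟶ G) (n : ℕ) (U : C) : HE F n U →+ HE G n U :=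
  (Ext.mk₀ φ).postcomp (CohCx.freeSheaf J U) (add_zero n)

theorem hmap_apply {F G : Sheaf J AddCommGrpCat.{u}} (φ : F ⟶ G) (n : ℕ) (U : C) (x : HE F n U) :
    hmap φ n U x = x.comp (Ext.mk₀ φ) (add_zero n) := rfl

variable {S T : ShortComplex (Sheaf J AddCommGrpCat.{u})}

/-- Connecting map. -/
abbrev conn (hS : S.ShortExact) (n : ℕ) (U : C) : HE S.X₃ n U →+ HE S.X₁ (n + 1) U :=
  Crv77.gδ (CohCx.freeSheaf J U) hS n

/-- Connecting map on sections. -/
def delta (hS : S.ShortExact) (U : C) : S.X₃.obj.obj (op U) →+ HE S.X₁ 1 U :=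
  (conn hS 0 U).comp (he0Equiv S.X₃ U).symm.toAddMonoidHom

theorem delta_apply (hS : S.ShortExact) (U : C) (s : S.X₃.obj.obj (op U)) :
    delta hS U s = ((he0Equiv S.X₃ U).symm s).comp hS.extClass rfl := rfl

theorem hmap_conn_eq_zero_iff (hS : S.ShortExact) (n : ℕ) (U : C) (x : HE S.X₁ (n + 1) U) :
    hmap S.f (n + 1) U x = 0 ↔ ∃ y, conn hS n U y = x :=
  Crv77.gexact₁ (CohCx.freeSheaf J U) hS n x

theorem conn_eq_zero_iff (hS : S.ShortExact) (n : ℕ) (U : C) (x : HE S.X₃ n U) :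
    conn hS n U x = 0 ↔ ∃ y, hmap S.g n U y = x :=
  Crv77.gexact₃ (CohCx.freeSheaf J U) hS n x

theorem hmap_g_eq_zero_iff (hS : S.ShortExact) (n : ℕ) (U : C) (x : HE S.X₂ n U) :
    hmap S.g n U x = 0 ↔ ∃ y, hmap S.f n U y = x :=
  Crv77.gexact₂ (CohCx.freeSheaf J U) hS n x

theorem delta_eq_zero_iff (hS : S.ShortExact) (U : C) (s : S.X₃.obj.obj (op U)) :
    delta hS U s = 0 ↔ ∃ t, S.g.hom.app (op U) t = s := by
  refine (conn_eq_zero_iff hS 0 U _).trans ⟨?_, ?_⟩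
  · rintro ⟨y, hy⟩
    obtain ⟨t, rfl⟩ := (he0Equiv S.X₂ U).symm.surjective y
    refine ⟨t, (he0Equiv S.X₃ U).symm.injective ?_⟩
    rw [← Coh69.he0Equiv_symm_comp_mk₀]
    exact hy
  · rintro ⟨t, rfl⟩
    exact ⟨(he0Equiv S.X₂ U).symm t, Coh69.he0Equiv_symm_comp_mk₀ S.g U t⟩

theorem hmap_f_eq_zero_iff (hS : S.ShortExact) (U : C) (x : HE S.X₁ 1 U) :
    hmap S.f 1 U x = 0 ↔ ∃ s, delta hS U s = x := by
  refine (hmap_conn_eq_zero_iff hS 0 U x).trans ⟨?_, ?_⟩
  · rintro ⟨y, rfl⟩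
    exact ⟨he0Equiv S.X₃ U y, congrArg (conn hS 0 U) ((he0Equiv S.X₃ U).symm_apply_apply y)⟩
  · rintro ⟨s, rfl⟩
    exact ⟨_, rfl⟩

theorem delta_surjective (hS : S.ShortExact) (U : C) [Subsingleton (HE S.X₂ 1 U)] :
    Function.Surjective (delta hS U) := fun x =>
  (hmap_f_eq_zero_iff hS U x).1 (Subsingleton.elim _ _)

theorem delta_natural (hS : S.ShortExact) (hT : T.ShortExact) (φ : S ⟶ T) (U : C)
    (s : S.X₃.obj.obj (op U)) :
    delta hT U (φ.τ₃.hom.app (op U) s) = hmap φ.τ₁ 1 U (delta hS U s) := by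
  rw [hmap_apply, delta_apply, delta_apply, ← Coh69.he0Equiv_symm_comp_mk₀, Ext.comp_assoc_of_second_deg_zero,
    Ext.comp_assoc_of_third_deg_zero, ShortComplex.ShortExact.extClass_naturality hS hT φ]

end Groth.Agent.UnitsLES64
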