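import Groth.Agent.PicH1x97.Equiv
import Groth.Agent.Amp73.PullTensor
import Groth.Agent.E4O.SheafQHomeo
import Groth.Agent.UnitsLES64.Delta

/-!
The class of a line bundle modulo global images, and its behaviour under pullback.
-/

set_option autoImplicit false
set_option backward.isDefEq.respectTransparency false

universe u

open CategoryTheory CategoryTheory.Limits AlgebraicGeometry TopologicalSpace Opposite

noncomputable section

namespace Groth.Agent.UnitsLES64

open PicH1x97 Var76.LineBundle Var76.ZeroScheme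

variable {X : Scheme.{u}} [PicGrp.Law X]

/-- The class of `p` in the quotient sections modulo global images. -/
theorem exists_pcl : ∃ Φ : Additive (PicLoc.PicSet X) →+ (Qsec X ⊤ ⧸ imTop X), Function.Bijective Φ ∧
    ∀ (L : X.Modules) (hL : PicF.IsInvertible L) (r : Qsec X ⊤), Rel L r →
      Φ (Additive.ofMul (PicGrp.cls L hL)) = QuotientAddGroup.mk r := by
  choose L hL hcls using fun c : PicLoc.PicSet X => PicGrp.exists_eq_cls c
  choose q hq using fun c => exists_rel (hL c)
  have key : ∀ (c : PicLoc.PicSet X) (M : X.Modules) (hM : PicF.IsInvertible M) (r : Qsec X ⊤),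
      PicGrp.cls M hM = c → Rel M r →
        (QuotientAddGroup.mk' (imTop X)) r = (QuotientAddGroup.mk' (imTop X)) (q c) := by
    intro c M hM r hc hr
    obtain ⟨φ⟩ := (PicGrp.cls_eq_cls_iff hM (hL c)).1 (hc.trans (hcls c))
    obtain ⟨b, hb⟩ := exists_pr_eq_sub (hL c) (hr.of_iso φ) (hq c)
    exact QuotientAddGroup.eq_iff_sub_mem.2 ⟨b, hb⟩
  let Φ : Additive (PicLoc.PicSet X) →+ (Qsec X ⊤ ⧸ imTop X) :=
    AddMonoidHom.mk' (fun c => QuotientAddGroup.mk' (imTop X) (q c.toMul)) fun c d => by
      show _ = QuotientAddGroup.mk' _ _ + QuotientAddGroup.mk' _ _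
      rw [← map_add]
      obtain ⟨N, hN, hNc⟩ := PicGrp.exists_eq_cls (c.toMul * d.toMul)
      have h1 : PicF.cl (CohB1.tensorMod (L c.toMul) (L d.toMul)) = PicF.cl N := by
        have := congrArg Subtype.val hNc
        rw [hcls c.toMul, hcls d.toMul, PicGrp.cls_mul_cls_val] at this
        exact this
      obtain ⟨φ⟩ := (PicGrp.cl_eq_cl_iff _ _).1 h1
      exact (key (c.toMul * d.toMul) N hN _ hNc.symm
        (((hq c.toMul).tensor (hq d.toMul)).of_iso φ)).symm
  refine ⟨Φ, ⟨?_, ?_⟩, fun M hM r hr => (key _ M hM r rfl hr).symm⟩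
  · rw [injective_iff_map_eq_zero]
    intro c hc
    obtain ⟨b, hb⟩ := (QuotientAddGroup.eq_zero_iff (N := imTop X) (q c.toMul)).1 hc
    obtain ⟨φ⟩ := trivial_of_pr b (hb.symm ▸ hq c.toMul)
    apply Additive.toMul.injective
    show c.toMul = 1
    rw [hcls c.toMul]
    exact (PicGrp.cls_eq_one_iff (hL _)).2 ⟨φ⟩
  · intro z
    obtain ⟨r, rfl⟩ := QuotientAddGroup.mk'_surjective (imTop X) z
    obtain ⟨M, hM, hr⟩ := exists_rel' r
    exact ⟨Additive.ofMul (PicGrp.cls M hM), (key _ M hM r rfl hr).symm⟩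

section Push

variable {Y : Scheme.{u}} (i : X ⟶ Y)

/-- The direct image of the injective sequence. -/
abbrev pushSES : ShortComplex (CohTop.Ab Y.toTopCat) := (ses X).map (CohTop.push i.base)

omit [PicGrp.Law X] in
theorem bijective_map (hi : Topology.IsClosedEmbedding i.base) (hs : Function.Surjective i.base) :
    Function.Bijective fun U : Y.Opens => (Opens.map i.base).obj U := by
  refine ⟨fun U V h => ?_, fun W => ?_⟩
  · refine Opens.ext (Set.ext fun x => ?_)
    obtain ⟨y, rfl⟩ := hs x
    exact Set.ext_iff.1 (congrArg (fun W : X.Opens => (W : Set X)) h) y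
  · obtain ⟨U, hU, h⟩ := hi.isInducing.isOpen_iff.1 W.2
    exact ⟨⟨U, hU⟩, Opens.ext h⟩

omit [PicGrp.Law X] in
theorem pushSES_spec [IsClosedImmersion i] (hs : Function.Surjective i.base) :
    (pushSES i).ShortExact ∧ Injective (pushSES i).X₂ := by
  have hb := bijective_map i i.isClosedEmbedding hs
  have : (CohTop.push i.base).IsEquivalence :=
    E4O.SheafQH.isEquivalence_pushforward_of_bijective i.base hb AddCommGrpCat.{u}
  refine ⟨(SiteCoh.injSES_shortExact (UnitsSh.unitsAb X)).map_of_exact (CohTop.push i.base), ?_⟩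
  exact ((CohTop.push i.base).asEquivalence.map_injective_iff (ses X).X₂).2 inferInstance

end Push

end Groth.Agent.UnitsLES64
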