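import Groth.Agent.UnitsLES64.Nat
import Groth.Agent.Coh69.Push

/-!
Classes of line bundles on closed subschemes as cohomology classes of the ambient space.
-/

set_option autoImplicit false
set_option backward.isDefEq.respectTransparency false

universe u

open CategoryTheory CategoryTheory.Limits AlgebraicGeometry TopologicalSpace Opposite

noncomputable section

namespace Groth.Agent.UnitsLES64

open PicH1x97

variable {X Y : Scheme.{u}}

/-- Sections over the empty open vanish. -/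
theorem eq_zero_of_empty {T : TopCat.{u}} (F : Sheaf (Opens.grothendieckTopology T) AddCommGrpCat.{u})
    {U : Opens T} (hU : (U : Set T) = ∅) (s : F.obj.obj (op U)) : s = 0 :=
  Coh69.sheaf_ext F (fun k : PEmpty.{u + 1} => k.elim)
    (fun x hx => by rw [← SetLike.mem_coe, hU] at hx; exact hx.elim) (fun k => k.elim) _ _ fun k => k.elim

/-- Direct image along a closed immersion preserves epimorphisms. -/
theorem epi_push_map (i : X ⟶ Y) [IsClosedImmersion i] {F G : CohTop.Ab X.toTopCat} (φ : F ⟶ G) [Epi φ] :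
    Epi ((CohTop.push i.base).map φ) := by
  refine (Sheaf.isLocallySurjective_iff_epi' AddCommGrpCat.{u} _).1 ⟨fun {U} s => ?_⟩
  intro x hx
  by_cases hr : x ∈ Set.range i
  · obtain ⟨y, rfl⟩ := hr
    have hφ : Presheaf.IsLocallySurjective (Opens.grothendieckTopology X.toTopCat) φ.hom :=
      (Sheaf.isLocallySurjective_iff_epi' AddCommGrpCat.{u} φ).2 ‹_›
    obtain ⟨V, f, ⟨t, ht⟩, hyV⟩ :=
      Presheaf.imageSieve_mem (Opens.grothendieckTopology X.toTopCat) φ.hom (U := op (i ⁻¹ᵁ U)) s y hx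
    obtain ⟨W, hWo, hW⟩ := i.isClosedEmbedding.isInducing.isOpen_iff.mp V.2
    let W' : Y.Opens := ⟨W, hWo⟩ ⊓ U
    have hle : i ⁻¹ᵁ W' ≤ V := fun z hz => (Set.ext_iff.1 hW z).1 hz.1
    refine ⟨W', homOfLE inf_le_right, ⟨F.obj.map (homOfLE hle).op t, ?_⟩, ⟨(Set.ext_iff.1 hW y).2 hyV, hx⟩⟩
    show φ.hom.app (op (i ⁻¹ᵁ W')) (Coh69.res F.obj hle t) =
      Coh69.res G.obj (i.preimage_mono inf_le_right) (s : G.obj.obj (op (i ⁻¹ᵁ U)))
    rw [Coh69.hom_res, show φ.hom.app (op V) t = Coh69.res G.obj f.le s from ht]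
    exact Coh69.res_res _ _ _ _
  · let W' : Y.Opens := U ⊓ ⟨(Set.range i)ᶜ, i.isClosedEmbedding.isClosed_range.isOpen_compl⟩
    refine ⟨W', homOfLE inf_le_left, ⟨0, ?_⟩, ⟨hx, hr⟩⟩
    have he : ((i ⁻¹ᵁ W' : X.Opens) : Set X) = ∅ :=
      Set.eq_empty_iff_forall_notMem.2 fun z hz => hz.2 ⟨z, rfl⟩
    exact (eq_zero_of_empty G he _).trans (eq_zero_of_empty G he _).symm

/-- The direct image of the injective sequence along a closed immersion. -/
theorem pushSES_spec' (i : X ⟶ Y) [IsClosedImmersion i] :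
    (pushSES i).ShortExact ∧ Injective (pushSES i).X₂ := by
  have hS := SiteCoh.injSES_shortExact (UnitsSh.unitsAb X)
  have := hS.mono_f
  have := hS.epi_g
  refine ⟨?_, Coh69.pushSh_injective i.base (ses X).X₂⟩
  have : PreservesLimitsOfSize.{0, 0} (Coh69.pushSh i.base) :=
    (TopCat.Sheaf.pullbackPushforwardAdjunction AddCommGrpCat.{u} i.base).rightAdjoint_preservesLimits
  have : Mono (pushSES i).f := (Coh69.pushSh i.base).map_mono (ses X).f
  have : Epi (pushSES i).g := epi_push_map i (ses X).g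
  exact { exact := ShortComplex.exact_of_f_is_kernel _
            (KernelFork.mapIsLimit _ hS.fIsKernel (Coh69.pushSh i.base)) }

/-- The cohomology class on the ambient space of a line bundle on a closed subscheme. -/
abbrev HU (i : X ⟶ Y) : Type u :=
  Coh69.HE ((CohTop.push i.base).obj (UnitsSh.unitsAb X)) 1 (⊤ : Y.Opens)

/-- `Φ` takes a bundle to the connecting image of its class. -/
def IsClassMap (i : X ⟶ Y) [IsClosedImmersion i] [PicGrp.Law X] (Φ : Additive (PicLoc.PicSet X) →+ HU i) : Prop :=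
  Function.Bijective Φ ∧ ∀ (L : X.Modules) (hL : PicF.IsInvertible L) (r : Qsec X ⊤), Rel L r →
    Φ (Additive.ofMul (PicGrp.cls L hL)) = delta (pushSES_spec' i).1 (⊤ : Y.Opens) r

theorem exists_isClassMap (i : X ⟶ Y) [IsClosedImmersion i] [PicGrp.Law X] :
    ∃ Φ, IsClassMap i Φ := by
  obtain ⟨PX, hPX, hPXr⟩ := exists_pcl (X := X)
  have := (pushSES_spec' i).2
  have hsub : Subsingleton (Coh69.HE (pushSES i).X₂ 1 (⊤ : Y.Opens)) :=
    Coh69.he_subsingleton_of_injective (pushSES i).X₂ 0 _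
  let dT : Qsec X ⊤ →+ HU i := delta (pushSES_spec' i).1 (⊤ : Y.Opens)
  have hdT : ∀ s, dT s = 0 ↔ s ∈ imTop X := fun s => delta_eq_zero_iff (pushSES_spec' i).1 (⊤ : Y.Opens) s
  let dX := QuotientAddGroup.lift (imTop X) dT fun s hs => (hdT s).2 hs
  have hdX : Function.Bijective dX := by
    refine ⟨(injective_iff_map_eq_zero dX).2 fun z hz => ?_, fun y => ?_⟩
    · obtain ⟨s, rfl⟩ := QuotientAddGroup.mk'_surjective (imTop X) z
      exact (QuotientAddGroup.eq_zero_iff s).2 ((hdT s).1 hz)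
    · obtain ⟨s, hs⟩ := delta_surjective (pushSES_spec' i).1 (⊤ : Y.Opens) y
      exact ⟨QuotientAddGroup.mk' _ s, hs⟩
  refine ⟨dX.comp PX, hdX.comp hPX, fun L hL r hr => ?_⟩
  show dX (PX _) = _
  rw [hPXr L hL r hr]
  rfl

/-- The restriction map on units of closed subschemes of `X`. -/
abbrev rMap {A B : Scheme.{u}} (g : A ⟶ B) (b : B ⟶ X) :
    (CohTop.push b.base).obj (UnitsSh.unitsAb B) ⟶ (CohTop.push (g ≫ b).base).obj (UnitsSh.unitsAb A) :=
  (CohTop.push b.base).map (UnitsSh.comap g)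

/-- Pullback of line bundles is restriction of classes. -/
theorem isClassMap_natural {A B : Scheme.{u}} [PicGrp.Law A] [PicGrp.Law B] (g : A ⟶ B) (b : B ⟶ X)
    [IsClosedImmersion b] [IsClosedImmersion (g ≫ b)] (hg : PicGrp.PullMul g)
    {ΦA : Additive (PicLoc.PicSet A) →+ HU (g ≫ b)} {ΦB : Additive (PicLoc.PicSet B) →+ HU b}
    (hA : IsClassMap (g ≫ b) ΦA) (hB : IsClassMap b ΦB) (c : PicLoc.PicSet B) :
    ΦA (Additive.ofMul (PicGrp.pullHom g hg c)) = hmap (rMap g b) 1 ⊤ (ΦB (Additive.ofMul c)) := by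
  have hinj : Injective (pushSES g).X₂ := Coh69.pushSh_injective g.base (ses A).X₂
  let τ₂ : (ses B).X₂ ⟶ (pushSES g).X₂ :=
    Injective.factorThru (UnitsSh.comap g ≫ (pushSES g).f) (ses B).f
  have hτ₂ : (ses B).f ≫ τ₂ = UnitsSh.comap g ≫ (pushSES g).f := Injective.comp_factorThru _ _
  let τ₃ : (ses B).X₃ ⟶ (pushSES g).X₃ := cokernel.desc _ (τ₂ ≫ (pushSES g).g) (by
    show (ses B).f ≫ τ₂ ≫ (pushSES g).g = 0
    rw [reassoc_of% hτ₂, (pushSES g).zero, comp_zero])
  let ψ : ses B ⟶ pushSES g :=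
    { τ₁ := UnitsSh.comap g, τ₂ := τ₂, τ₃ := τ₃, comm₁₂ := hτ₂.symm, comm₂₃ := (cokernel.π_desc _ _ _).symm }
  let ψ' : pushSES b ⟶ pushSES (g ≫ b) :=
    { τ₁ := rMap g b
      τ₂ := (CohTop.push b.base).map τ₂
      τ₃ := (CohTop.push b.base).map τ₃
      comm₁₂ := ((CohTop.push b.base).mapShortComplex.map ψ).comm₁₂
      comm₂₃ := ((CohTop.push b.base).mapShortComplex.map ψ).comm₂₃ }
  obtain ⟨L, hL, rfl⟩ := PicGrp.exists_eq_cls c
  obtain ⟨q, hq⟩ := exists_rel hL
  rw [PicGrp.pullHom_cls g hg L hL, hA.2 _ _ _ (rel_pullback g ψ rfl hL hq), hB.2 L hL q hq]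
  exact delta_natural (pushSES_spec' b).1 (pushSES_spec' (g ≫ b)).1 ψ' (⊤ : X.Opens) q

theorem isClassMap_natural_of_eq {A B : Scheme.{u}} [PicGrp.Law A] [PicGrp.Law B] {g : A ⟶ B} {b : B ⟶ X}
    {a : A ⟶ X} (h : g ≫ b = a) [IsClosedImmersion b] [IsClosedImmersion a] (hg : PicGrp.PullMul g)
    {ΦA : Additive (PicLoc.PicSet A) →+ HU a} {ΦB : Additive (PicLoc.PicSet B) →+ HU b}
    (hA : IsClassMap a ΦA) (hB : IsClassMap b ΦB) (c : PicLoc.PicSet B) :
    ΦA (Additive.ofMul (PicGrp.pullHom g hg c)) =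
      hmap (rMap g b ≫ eqToHom (by rw [h])) 1 ⊤ (ΦB (Additive.ofMul c)) := by
  subst h
  rw [eqToHom_refl, Category.comp_id]
  exact isClassMap_natural g b hg hA hB c

end Groth.Agent.UnitsLES64
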