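import Groth.Agent.UnitsLES64.Closed
import Mathlib.AlgebraicGeometry.IdealSheaf.Subscheme

/-!
Functions on the union of two closed subschemes.
-/

set_option autoImplicit false
set_option backward.isDefEq.respectTransparency false

universe u

open CategoryTheory CategoryTheory.Limits AlgebraicGeometry TopologicalSpace Opposite

noncomputable section

namespace Groth.Agent.UnitsLES64

variable {X : Scheme.{u}} (I J : X.IdealSheafData)

/-- The inclusion of the intersection in the first piece. -/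
abbrev gL : (I ⊔ J).subscheme ⟶ I.subscheme :=
  Scheme.IdealSheafData.inclusion (le_sup_left : I ≤ I ⊔ J)

/-- The inclusion of the intersection in the second piece. -/
abbrev gR : (I ⊔ J).subscheme ⟶ J.subscheme :=
  Scheme.IdealSheafData.inclusion (le_sup_right : J ≤ I ⊔ J)

theorem gL_comp : gL I J ≫ I.subschemeι = (I ⊔ J).subschemeι := Scheme.IdealSheafData.inclusion_subschemeι _

theorem gR_comp : gR I J ≫ J.subschemeι = (I ⊔ J).subschemeι := Scheme.IdealSheafData.inclusion_subschemeι _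

theorem preimage_le_of_comp {A B : Scheme.{u}} {g : A ⟶ B} {b : B ⟶ X} {a : A ⟶ X} (h : g ≫ b = a)
    (U : X.Opens) : a ⁻¹ᵁ U ≤ g ⁻¹ᵁ (b ⁻¹ᵁ U) := by
  subst h
  exact le_rfl

theorem appLE_app {A B : Scheme.{u}} {g : A ⟶ B} {b : B ⟶ X} {a : A ⟶ X} (h : g ≫ b = a) (U : X.Opens)
    (r : Γ(X, U)) : g.appLE (b ⁻¹ᵁ U) (a ⁻¹ᵁ U) (preimage_le_of_comp h U) (b.app U r) = a.app U r := by
  subst h
  show g.appLE (b ⁻¹ᵁ U) (g ⁻¹ᵁ (b ⁻¹ᵁ U)) le_rfl (b.app U r) = _
  rw [Scheme.Hom.appLE_eq_app]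
  rfl

theorem app_res {A B : Scheme.{u}} (f : A ⟶ B) {U V : B.Opens} (e : V ≤ U) (r : Γ(B, U)) :
    f.app V (B.presheaf.map (homOfLE e).op r) = A.presheaf.map (homOfLE (f.preimage_mono e)).op (f.app U r) :=
  ConcreteCategory.congr_hom (f.naturality (homOfLE e).op) r

theorem appLE_res {A B : Scheme.{u}} {g : A ⟶ B} {b : B ⟶ X} {a : A ⟶ X} (h : g ≫ b = a) {U V : X.Opens}
    (e : V ≤ U) (r : Γ(B, b ⁻¹ᵁ U)) :
    g.appLE (b ⁻¹ᵁ V) (a ⁻¹ᵁ V) (preimage_le_of_comp h V) (B.presheaf.map (homOfLE (b.preimage_mono e)).op r) =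
      A.presheaf.map (homOfLE (a.preimage_mono e)).op (g.appLE (b ⁻¹ᵁ U) (a ⁻¹ᵁ U) (preimage_le_of_comp h U) r) := by
  rw [← CategoryTheory.ConcreteCategory.comp_apply, ← CategoryTheory.ConcreteCategory.comp_apply,
    Scheme.Hom.map_appLE, Scheme.Hom.appLE_map]

variable {I J} (hIJ : I ⊓ J = ⊥)

include hIJ in
theorem eq_zero_affine (V : X.affineOpens) (r : Γ(X, V.1)) (hI : I.subschemeι.app V.1 r = 0)
    (hJ : J.subschemeι.app V.1 r = 0) : r = 0 := by
  have h1 : r ∈ I.ideal V := by rw [← I.ker_subschemeι_app V]; exact hI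
  have h2 : r ∈ J.ideal V := by rw [← J.ker_subschemeι_app V]; exact hJ
  have e : I.ideal V ⊓ J.ideal V = ⊥ := by
    have := congrArg (fun K : X.IdealSheafData => K.ideal V) hIJ
    simpa [Scheme.IdealSheafData.ideal_inf] using this
  have h3 : r ∈ I.ideal V ⊓ J.ideal V := ⟨h1, h2⟩
  rw [e] at h3
  exact h3

include hIJ in
theorem glue_unique (U : X.Opens) (r r' : Γ(X, U)) (hI : I.subschemeι.app U r = I.subschemeι.app U r')
    (hJ : J.subschemeι.app U r = J.subschemeι.app U r') : r = r' := by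
  have hcov : ∀ z : U, ∃ W : X.affineOpens, z.1 ∈ W.1 ∧ W.1 ≤ U := fun z => by
    obtain ⟨W, hW, hzW, hWU⟩ := exists_isAffineOpen_mem_and_subset z.2
    exact ⟨⟨W, hW⟩, hzW, hWU⟩
  choose W hzW hWU using hcov
  refine TopCat.Sheaf.eq_of_locally_eq' (F := X.sheaf) (fun z => (W z).1) U
    (fun z => homOfLE (hWU z)) (fun z hz => Opens.mem_iSup.mpr ⟨⟨z, hz⟩, hzW _⟩) _ _ fun z => ?_
  refine sub_eq_zero.1 ?_
  show (X.presheaf.map (homOfLE (hWU z)).op).hom r - (X.presheaf.map (homOfLE (hWU z)).op).hom r' = 0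
  rw [← map_sub]
  refine eq_zero_affine hIJ (W z) _ ?_ ?_
  · rw [app_res, map_sub, hI, sub_self, map_zero]
  · rw [app_res, map_sub, hJ, sub_self, map_zero]

theorem glue_exists_affine (V : X.affineOpens) (a : Γ(I.subscheme, I.subschemeι ⁻¹ᵁ V.1))
    (b : Γ(J.subscheme, J.subschemeι ⁻¹ᵁ V.1))
    (h : (gL I J).appLE _ ((I ⊔ J).subschemeι ⁻¹ᵁ V.1) (preimage_le_of_comp (gL_comp I J) V.1) a =
      (gR I J).appLE _ ((I ⊔ J).subschemeι ⁻¹ᵁ V.1) (preimage_le_of_comp (gR_comp I J) V.1) b) :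
    ∃ r, I.subschemeι.app V.1 r = a ∧ J.subschemeι.app V.1 r = b := by
  obtain ⟨ra, rfl⟩ := I.subschemeι.app_surjective V.1 V.2 a
  obtain ⟨rb, rfl⟩ := J.subschemeι.app_surjective V.1 V.2 b
  rw [appLE_app (gL_comp I J), appLE_app (gR_comp I J)] at h
  have hm : ra - rb ∈ (I ⊔ J).ideal V := by
    rw [← (I ⊔ J).ker_subschemeι_app V, RingHom.mem_ker, map_sub, sub_eq_zero]
    exact h
  rw [Scheme.IdealSheafData.ideal_sup, Pi.sup_apply, Submodule.mem_sup] at hm
  obtain ⟨p, hp, q, hq, hpq⟩ := hm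
  have hp0 : I.subschemeι.app V.1 p = 0 := by
    rw [← RingHom.mem_ker, I.ker_subschemeι_app V]; exact hp
  have hq0 : J.subschemeι.app V.1 q = 0 := by
    rw [← RingHom.mem_ker, J.ker_subschemeι_app V]; exact hq
  refine ⟨ra - p, by rw [map_sub, hp0, sub_zero], ?_⟩
  rw [show ra - p = rb + q from by linear_combination -hpq, map_add, hq0, add_zero]

include hIJ in
theorem glue_exists (U : X.Opens) (a : Γ(I.subscheme, I.subschemeι ⁻¹ᵁ U))
    (b : Γ(J.subscheme, J.subschemeι ⁻¹ᵁ U))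
    (h : (gL I J).appLE _ ((I ⊔ J).subschemeι ⁻¹ᵁ U) (preimage_le_of_comp (gL_comp I J) U) a =
      (gR I J).appLE _ ((I ⊔ J).subschemeι ⁻¹ᵁ U) (preimage_le_of_comp (gR_comp I J) U) b) :
    ∃ r, I.subschemeι.app U r = a ∧ J.subschemeι.app U r = b := by
  have hcov : ∀ z : U, ∃ W : X.affineOpens, z.1 ∈ W.1 ∧ W.1 ≤ U := fun z => by
    obtain ⟨W, hW, hzW, hWU⟩ := exists_isAffineOpen_mem_and_subset z.2
    exact ⟨⟨W, hW⟩, hzW, hWU⟩
  choose W hzW hWU using hcov
  have hloc : ∀ z, ∃ r, I.subschemeι.app (W z).1 r =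
        I.subscheme.presheaf.map (homOfLE (I.subschemeι.preimage_mono (hWU z))).op a ∧
      J.subschemeι.app (W z).1 r =
        J.subscheme.presheaf.map (homOfLE (J.subschemeι.preimage_mono (hWU z))).op b := fun z =>
    glue_exists_affine (W z) _ _ (by rw [appLE_res (gL_comp I J) (hWU z), appLE_res (gR_comp I J) (hWU z), h])
  choose r hrI hrJ using hloc
  have hcompat : TopCat.Presheaf.IsCompatible X.sheaf.obj (fun z => (W z).1) r := by
    intro z z'
    refine glue_unique hIJ ((W z).1 ⊓ (W z').1) _ _ ?_ ?_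
    · refine (app_res I.subschemeι inf_le_left (r z)).trans (Eq.trans ?_ (app_res I.subschemeι inf_le_right (r z')).symm)
      rw [hrI, hrI, ← CategoryTheory.ConcreteCategory.comp_apply, ← CategoryTheory.ConcreteCategory.comp_apply,
        ← Functor.map_comp, ← Functor.map_comp]
      rfl
    · refine (app_res J.subschemeι inf_le_left (r z)).trans (Eq.trans ?_ (app_res J.subschemeι inf_le_right (r z')).symm)
      rw [hrJ, hrJ, ← CategoryTheory.ConcreteCategory.comp_apply, ← CategoryTheory.ConcreteCategory.comp_apply,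
        ← Functor.map_comp, ← Functor.map_comp]
      rfl
  obtain ⟨s, hs, -⟩ := TopCat.Sheaf.existsUnique_gluing' X.sheaf (fun z => (W z).1) U
    (fun z => homOfLE (hWU z)) (fun z hz => Opens.mem_iSup.mpr ⟨⟨z, hz⟩, hzW _⟩) r hcompat
  have hs' : ∀ z, X.presheaf.map (homOfLE (hWU z)).op s = r z := hs
  refine ⟨s, ?_, ?_⟩
  · refine TopCat.Sheaf.eq_of_locally_eq' (F := I.subscheme.sheaf) (fun z => I.subschemeι ⁻¹ᵁ (W z).1) _
      (fun z => homOfLE (I.subschemeι.preimage_mono (hWU z)))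
      (fun y hy => Opens.mem_iSup.mpr ⟨⟨I.subschemeι y, hy⟩, hzW _⟩) _ _ fun z => ?_
    refine (app_res I.subschemeι (hWU z) s).symm.trans ?_
    rw [hs', hrI]
    rfl
  · refine TopCat.Sheaf.eq_of_locally_eq' (F := J.subscheme.sheaf) (fun z => J.subschemeι ⁻¹ᵁ (W z).1) _
      (fun z => homOfLE (J.subschemeι.preimage_mono (hWU z)))
      (fun y hy => Opens.mem_iSup.mpr ⟨⟨J.subschemeι y, hy⟩, hzW _⟩) _ _ fun z => ?_
    refine (app_res J.subschemeι (hWU z) s).symm.trans ?_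
    rw [hs', hrJ]
    rfl

include hIJ in
theorem glue_exists_unit (U : X.Opens) (a : Γ(I.subscheme, I.subschemeι ⁻¹ᵁ U)ˣ)
    (b : Γ(J.subscheme, J.subschemeι ⁻¹ᵁ U)ˣ)
    (h : Units.map ((gL I J).appLE _ ((I ⊔ J).subschemeι ⁻¹ᵁ U) (preimage_le_of_comp (gL_comp I J) U)).hom.toMonoidHom a =
      Units.map ((gR I J).appLE _ ((I ⊔ J).subschemeι ⁻¹ᵁ U) (preimage_le_of_comp (gR_comp I J) U)).hom.toMonoidHom b) :
    ∃ r : Γ(X, U)ˣ, Units.map (I.subschemeι.app U).hom.toMonoidHom r = a ∧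
      Units.map (J.subschemeι.app U).hom.toMonoidHom r = b := by
  obtain ⟨r, hra, hrb⟩ := glue_exists hIJ U a.val b.val (congrArg Units.val h)
  obtain ⟨r', hra', hrb'⟩ := glue_exists hIJ U a.inv b.inv (congrArg Units.inv h)
  have h1 : r * r' = 1 := glue_unique hIJ U _ _ (by rw [map_mul, hra, hra', a.val_inv, map_one])
    (by rw [map_mul, hrb, hrb', b.val_inv, map_one])
  exact ⟨⟨r, r', h1, by rw [mul_comm, h1]⟩, Units.ext hra, Units.ext hrb⟩

end Groth.Agent.UnitsLES64
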