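import Groth.Agent.UnitsLES64.GlueRing
import Groth.Agent.Fib44.CosimplicialSheaf
import Mathlib.CategoryTheory.Preadditive.Biproducts

/-!
The Mayer–Vietoris sequence of units of two closed subschemes covering the space.
-/

set_option autoImplicit false
set_option backward.isDefEq.respectTransparency false

universe u

open CategoryTheory CategoryTheory.Limits AlgebraicGeometry TopologicalSpace Opposite

noncomputable section

namespace Groth.Agent.UnitsLES64

variable {X : Scheme.{u}}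

/-- Restriction of units along `g` over `X`. -/
abbrev rho {A B : Scheme.{u}} {g : A ⟶ B} {b : B ⟶ X} {a : A ⟶ X} (h : g ≫ b = a) :
    (CohTop.push b.base).obj (UnitsSh.unitsAb B) ⟶ (CohTop.push a.base).obj (UnitsSh.unitsAb A) :=
  rMap g b ≫ eqToHom (by rw [h])

theorem rho_app {A B : Scheme.{u}} {g : A ⟶ B} {b : B ⟶ X} {a : A ⟶ X} (h : g ≫ b = a) (U : X.Opens)
    (v : Γ(B, b ⁻¹ᵁ U)ˣ) :
    (rho h).hom.app (op U) (UnitsSh.sectOfUnit (O := B.presheaf) (U := op (b ⁻¹ᵁ U)) v) =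
      UnitsSh.sectOfUnit (O := A.presheaf) (U := op (a ⁻¹ᵁ U))
        (Units.map (g.appLE (b ⁻¹ᵁ U) (a ⁻¹ᵁ U) (preimage_le_of_comp h U)).hom.toMonoidHom v) := by
  subst h
  rw [rho, eqToHom_refl, Category.comp_id]
  apply Additive.toMul.injective
  apply Units.ext
  show g.app (b ⁻¹ᵁ U) v.val = g.appLE (b ⁻¹ᵁ U) (g ⁻¹ᵁ (b ⁻¹ᵁ U)) le_rfl v.val
  rw [Scheme.Hom.appLE_eq_app]

theorem comap_rho {A B : Scheme.{u}} {g : A ⟶ B} {b : B ⟶ X} {a : A ⟶ X} (h : g ≫ b = a) :
    UnitsSh.comap b ≫ rho h = UnitsSh.comap a := by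
  subst h
  rw [rho, eqToHom_refl, Category.comp_id]
  apply Sheaf.hom_ext
  ext U s
  rfl

/-- Units lift locally along a closed immersion. -/
theorem epi_comap_closed {A : Scheme.{u}} (a : A ⟶ X) [IsClosedImmersion a] : Epi (UnitsSh.comap a) := by
  refine (Sheaf.isLocallySurjective_iff_epi' AddCommGrpCat.{u} _).1 ⟨fun {U} s => ?_⟩
  intro x hx
  by_cases hr : x ∈ Set.range a
  · obtain ⟨y, rfl⟩ := hr
    obtain ⟨W, hW, hyW, hWU⟩ := exists_isAffineOpen_mem_and_subset hx
    let v : Γ(A, a ⁻¹ᵁ W)ˣ := Units.map (A.presheaf.map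
      (homOfLE ((Opens.map a.base).monotone hWU)).op).hom.toMonoidHom (UnitsSh.unitOfSect s)
    obtain ⟨r, hr⟩ := a.app_surjective W hW v.val
    let W' : X.Opens := X.basicOpen r
    have hW'W : W' ≤ W := X.basicOpen_le r
    have hy : a y ∈ W' := by
      show y ∈ a ⁻¹ᵁ X.basicOpen r
      rw [Scheme.preimage_basicOpen, hr, Scheme.basicOpen_of_isUnit _ v.isUnit]
      exact hyW
    have hu : IsUnit (X.presheaf.map (homOfLE hW'W).op r) :=
      RingedSpace.isUnit_res_basicOpen X.toLocallyRingedSpace.toRingedSpace r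
    refine ⟨W', homOfLE (hW'W.trans hWU), ⟨UnitsSh.sectOfUnit (O := X.presheaf) (U := op W') hu.unit, ?_⟩, hy⟩
    apply Additive.toMul.injective
    apply Units.ext
    show a.app W' (X.presheaf.map (homOfLE hW'W).op r) = A.presheaf.map _ (UnitsSh.unitOfSect s).val
    rw [app_res a hW'W, hr]
    show A.presheaf.map _ (A.presheaf.map _ (UnitsSh.unitOfSect s).val) = _
    rw [← CategoryTheory.ConcreteCategory.comp_apply, ← Functor.map_comp]
    rfl
  · let W' : X.Opens := U ⊓ ⟨(Set.range a)ᶜ, a.isClosedEmbedding.isClosed_range.isOpen_compl⟩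
    refine ⟨W', homOfLE inf_le_left, ⟨0, ?_⟩, ⟨hx, hr⟩⟩
    have he : ((a ⁻¹ᵁ W' : A.Opens) : Set A) = ∅ :=
      Set.eq_empty_iff_forall_notMem.2 fun z hz => hz.2 ⟨z, rfl⟩
    exact (eq_zero_of_empty (UnitsSh.unitsAb A) he _).trans (eq_zero_of_empty (UnitsSh.unitsAb A) he _).symm

variable (I J : X.IdealSheafData)

/-- Units of the first piece. -/
abbrev UY : CohTop.Ab X.toTopCat := (CohTop.push I.subschemeι.base).obj (UnitsSh.unitsAb I.subscheme)

/-- The sum of the units of the pieces. -/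
abbrev UYZ : CohTop.Ab X.toTopCat := UY I ⊞ UY J

/-- Units of the two pieces. -/
abbrev mvF : UnitsSh.unitsAb X ⟶ UYZ I J :=
  biprod.lift (UnitsSh.comap I.subschemeι) (UnitsSh.comap J.subschemeι)

/-- Their difference on the intersection. -/
abbrev mvG : UYZ I J ⟶ UY (I ⊔ J) :=
  biprod.desc (rho (gL_comp I J)) (- rho (gR_comp I J))

theorem mvF_mvG : mvF I J ≫ mvG I J = 0 := by
  rw [biprod.lift_desc, Preadditive.comp_neg, comap_rho, comap_rho, add_neg_cancel]

/-- The Mayer–Vietoris sequence. -/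
abbrev mv : ShortComplex (CohTop.Ab X.toTopCat) := ShortComplex.mk (mvF I J) (mvG I J) (mvF_mvG I J)

theorem app_comp {P Q R : CohTop.Ab X.toTopCat} (φ : P ⟶ Q) (χ : Q ⟶ R) (U : X.Opens) (s : P.obj.obj (op U)) :
    (φ ≫ χ).hom.app (op U) s = χ.hom.app (op U) (φ.hom.app (op U) s) := rfl

theorem app_add {P Q : CohTop.Ab X.toTopCat} (φ χ : P ⟶ Q) (U : X.Opens) (s : P.obj.obj (op U)) :
    (φ + χ).hom.app (op U) s = φ.hom.app (op U) s + χ.hom.app (op U) s := rfl

theorem app_neg {P Q : CohTop.Ab X.toTopCat} (φ : P ⟶ Q) (U : X.Opens) (s : P.obj.obj (op U)) :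
    (-φ).hom.app (op U) s = -(φ.hom.app (op U) s) := rfl

theorem fst_mvF (U : X.Opens) (r : (UnitsSh.unitsAb X).obj.obj (op U)) :
    (biprod.fst : UYZ I J ⟶ UY I).hom.app (op U) ((mvF I J).hom.app (op U) r) =
      (UnitsSh.comap I.subschemeι).hom.app (op U) r :=
  ConcreteCategory.congr_hom (NatTrans.congr_app (congrArg (fun φ => φ.hom)
    (biprod.lift_fst (UnitsSh.comap I.subschemeι) (UnitsSh.comap J.subschemeι))) (op U)) r

theorem snd_mvF (U : X.Opens) (r : (UnitsSh.unitsAb X).obj.obj (op U)) :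
    (biprod.snd : UYZ I J ⟶ UY J).hom.app (op U) ((mvF I J).hom.app (op U) r) =
      (UnitsSh.comap J.subschemeι).hom.app (op U) r :=
  ConcreteCategory.congr_hom (NatTrans.congr_app (congrArg (fun φ => φ.hom)
    (biprod.lift_snd (UnitsSh.comap I.subschemeι) (UnitsSh.comap J.subschemeι))) (op U)) r

theorem sect_ext (U : X.Opens) (m m' : (UYZ I J).obj.obj (op U))
    (h₁ : (biprod.fst : UYZ I J ⟶ UY I).hom.app (op U) m = (biprod.fst : UYZ I J ⟶ UY I).hom.app (op U) m')
    (h₂ : (biprod.snd : UYZ I J ⟶ UY J).hom.app (op U) m = (biprod.snd : UYZ I J ⟶ UY J).hom.app (op U) m') :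
    m = m' := by
  have ht := congrArg (fun φ : UYZ I J ⟶ UYZ I J => φ.hom.app (op U)) (biprod.total (X := UY I) (Y := UY J))
  have e : ∀ n : (UYZ I J).obj.obj (op U),
      (biprod.inl : UY I ⟶ UYZ I J).hom.app (op U) ((biprod.fst : UYZ I J ⟶ UY I).hom.app (op U) n) +
        (biprod.inr : UY J ⟶ UYZ I J).hom.app (op U) ((biprod.snd : UYZ I J ⟶ UY J).hom.app (op U) n) = n :=
    fun n => ConcreteCategory.congr_hom ht n
  rw [← e m, ← e m', h₁, h₂]

variable {I J} (hIJ : I ⊓ J = ⊥)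

include hIJ in
theorem mv_shortExact : (mv I J).ShortExact := by
  have hinj : ∀ U, Function.Injective ((mv I J).f.hom.app U) := by
    intro ⟨U⟩ r r' h
    have h1 := congrArg ((biprod.fst : UYZ I J ⟶ UY I).hom.app (op U)) h
    have h2 := congrArg ((biprod.snd : UYZ I J ⟶ UY J).hom.app (op U)) h
    rw [fst_mvF, fst_mvF] at h1
    rw [snd_mvF, snd_mvF] at h2
    apply Additive.toMul.injective
    apply Units.ext
    exact glue_unique hIJ U _ _
      (congrArg (fun v => (UnitsSh.unitOfSect (O := I.subscheme.presheaf) (U := op (I.subschemeι ⁻¹ᵁ U)) v).val) h1)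
      (congrArg (fun v => (UnitsSh.unitOfSect (O := J.subscheme.presheaf) (U := op (J.subschemeι ⁻¹ᵁ U)) v).val) h2)
  have : Mono (mv I J).f := by
    have : ∀ U, Mono ((mv I J).f.hom.app U) := fun U => (AddCommGrpCat.mono_iff_injective _).2 (hinj U)
    have : Mono (mv I J).f.hom := NatTrans.mono_of_mono_app _
    exact (sheafToPresheaf _ _).mono_of_mono_map this
  have : Epi (mv I J).g := by
    have h0 : Epi (UnitsSh.comap I.subschemeι ≫ rho (gL_comp I J)) := by
      rw [comap_rho]; exact epi_comap_closed _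
    have h1 : Epi (rho (gL_comp I J)) := epi_of_epi (UnitsSh.comap I.subschemeι) _
    have h2 : Epi (biprod.inl ≫ mvG I J) := by rw [biprod.inl_desc]; exact h1
    exact epi_of_epi biprod.inl _
  refine { exact := Fib44.CosimpSheaf.exact_of_sections _ fun ⟨U⟩ => ?_, mono_f := ‹_›, epi_g := ‹_› }
  rw [ShortComplex.ab_exact_iff]
  intro (m : (UYZ I J).obj.obj (op U)) hm
  let a := (biprod.fst : UYZ I J ⟶ UY I).hom.app (op U) m
  let b := (biprod.snd : UYZ I J ⟶ UY J).hom.app (op U) m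
  have hm' : (rho (gL_comp I J)).hom.app (op U) a + -((rho (gR_comp I J)).hom.app (op U) b) = 0 := by
    refine Eq.trans ?_ hm
    exact (ConcreteCategory.congr_hom (NatTrans.congr_app (congrArg (fun φ => φ.hom)
      (show mvG I J = biprod.fst ≫ rho (gL_comp I J) + biprod.snd ≫ (- rho (gR_comp I J)) from
        biprod.desc_eq)) (op U)) m).symm
  let av : Γ(I.subscheme, I.subschemeι ⁻¹ᵁ U)ˣ := UnitsSh.unitOfSect a
  let bv : Γ(J.subscheme, J.subschemeι ⁻¹ᵁ U)ˣ := UnitsSh.unitOfSect b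
  have hab := add_neg_eq_zero.1 hm'
  obtain ⟨r, hra, hrb⟩ := glue_exists_unit hIJ U av bv
    (congrArg Additive.toMul ((rho_app (gL_comp I J) U av).symm.trans (hab.trans (rho_app (gR_comp I J) U bv))))
  refine ⟨UnitsSh.sectOfUnit (O := X.presheaf) (U := op U) r, sect_ext I J U _ _ ?_ ?_⟩
  · exact (fst_mvF I J U _).trans (congrArg Additive.ofMul hra)
  · exact (snd_mvF I J U _).trans (congrArg Additive.ofMul hrb)

end Groth.Agent.UnitsLES64
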