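import Groth.Agent.UnitsLES64.Class

/-!
Naturality of the class of a line bundle along a bijective closed immersion.
-/

set_option autoImplicit false
set_option backward.isDefEq.respectTransparency false

universe u

open CategoryTheory CategoryTheory.Limits AlgebraicGeometry TopologicalSpace Opposite

noncomputable section

namespace Groth.Agent.UnitsLES64

open PicH1x97 Var76.LineBundle Var76.ZeroScheme

variable {X Y : Scheme.{u}} (i : X ⟶ Y)

/-- Classes pull back along a morphism of the injective sequences. -/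
theorem rel_pullback (ψ : ses Y ⟶ pushSES i) (hψ : ψ.τ₁ = UnitsSh.comap i) {L : Y.Modules}
    (hL : PicF.IsInvertible L) {q : Qsec Y ⊤} (h : Rel L q) :
    Rel ((Scheme.Modules.pullback i).obj L) (ψ.τ₃.hom.app (op (⊤ : Y.Opens)) q : Qsec X ⊤) := by
  obtain ⟨S⟩ := h
  let a' : ∀ k, Isec X (i ⁻¹ᵁ S.W k) := fun k => ψ.τ₂.hom.app (op (S.W k)) (S.a k)
  have h32 : ∀ (U : Y.Opens) (s : Isec Y U),
      (ses X).g.hom.app (op (i ⁻¹ᵁ U)) (ψ.τ₂.hom.app (op U) s) = ψ.τ₃.hom.app (op U) (pr s) := fun U s =>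
    ConcreteCategory.congr_hom (NatTrans.congr_app (congrArg (fun φ => φ.hom) ψ.comm₂₃) (op U)) s
  have h12 : ∀ (U : Y.Opens) (c : Γ(Y, U)ˣ),
      ψ.τ₂.hom.app (op U) (isec c) = isec (Units.map (i.app U).hom.toMonoidHom c) := fun U c =>
    (ConcreteCategory.congr_hom (NatTrans.congr_app (congrArg (fun φ => φ.hom) ψ.comm₁₂) (op U))
      (UnitsSh.sectOfUnit (O := Y.presheaf) (U := op U) c)).symm.trans (by rw [hψ]; rfl)
  refine ⟨{
    κ := S.κ
    W := fun k => i ⁻¹ᵁ S.W k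
    cov := fun x => S.cov (i x)
    e := fun k => Amp73.pullS i L (S.W k) (S.e k)
    he := fun k => Amp73.isFrame_pullS i hL (S.he k)
    a := a'
    ha := fun k => ?_
    compat := fun k l => ?_ }⟩
  · refine (h32 _ _).trans ?_
    rw [S.ha k]
    exact Coh69.hom_res ψ.τ₃.hom le_top q
  · obtain ⟨c, hc, hca⟩ := S.compat k l
    refine ⟨Units.map (i.app (S.W k ⊓ S.W l)).hom.toMonoidHom c, ?_, ?_⟩
    · refine (Amp73.res_pullS i L (inf_le_right : S.W k ⊓ S.W l ≤ S.W l) (S.e l)).trans ?_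
      rw [hc, Amp73.pullS_smul, ← Amp73.res_pullS i L (inf_le_left : S.W k ⊓ S.W l ≤ S.W k) (S.e k)]
      rfl
    · have e := congrArg (ψ.τ₂.hom.app (op (S.W k ⊓ S.W l))) hca
      rw [map_add] at e
      let T₀ : Isec X (i ⁻¹ᵁ (S.W k ⊓ S.W l)) :=
        ψ.τ₂.hom.app (op (S.W k ⊓ S.W l)) (ires (inf_le_left : S.W k ⊓ S.W l ≤ S.W k) (S.a k))
      let T₁ : Isec X (i ⁻¹ᵁ (S.W k ⊓ S.W l)) := ψ.τ₂.hom.app (op (S.W k ⊓ S.W l)) (isec c)
      let T₂ : Isec X (i ⁻¹ᵁ (S.W k ⊓ S.W l)) :=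
        ψ.τ₂.hom.app (op (S.W k ⊓ S.W l)) (ires (inf_le_right : S.W k ⊓ S.W l ≤ S.W l) (S.a l))
      have e' : T₂ = T₀ + T₁ := e
      have e0 : T₀ = ires (i.preimage_mono inf_le_left) (a' k) :=
        Coh69.hom_res ψ.τ₂.hom (inf_le_left : S.W k ⊓ S.W l ≤ S.W k) (S.a k)
      have e1 : T₁ = isec (Units.map (i.app (S.W k ⊓ S.W l)).hom.toMonoidHom c) := h12 _ c
      have e2 : T₂ = ires (i.preimage_mono inf_le_right) (a' l) :=
        Coh69.hom_res ψ.τ₂.hom (inf_le_right : S.W k ⊓ S.W l ≤ S.W l) (S.a l)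
      rw [e0, e1, e2] at e'
      exact e'

variable [PicGrp.Law X] [PicGrp.Law Y]

/-- Identification of the Picard groups with first cohomology, natural in the pullback. -/
theorem exists_classMaps [IsClosedImmersion i] (hs : Function.Surjective i.base) (hi : PicGrp.PullMul i) :
    ∃ (Φ : Additive (PicLoc.PicSet Y) ≃+ Coh69.HE (UnitsSh.unitsAb Y) 1 (⊤ : Y.Opens))
      (ι : Additive (PicLoc.PicSet X) →+
        Coh69.HE ((CohTop.push i.base).obj (UnitsSh.unitsAb X)) 1 (⊤ : Y.Opens)),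
      Function.Injective ι ∧
        ∀ c, ι (Additive.ofMul (PicGrp.pullHom i hi c.toMul)) = hmap (UnitsSh.comap i) 1 ⊤ (Φ c) := by
  have hSY := SiteCoh.injSES_shortExact (UnitsSh.unitsAb Y)
  obtain ⟨hT, hTinj⟩ := pushSES_spec i hs
  have := hTinj
  have hsub : Subsingleton (Coh69.HE (ses Y).X₂ 1 (⊤ : Y.Opens)) :=
    Coh69.he_subsingleton_of_injective (ses Y).X₂ 0 _
  obtain ⟨PY, hPY, hPYr⟩ := exists_pcl (X := Y)
  obtain ⟨PX, hPX, hPXr⟩ := exists_pcl (X := X)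
  let dY : (Qsec Y ⊤ ⧸ imTop Y) →+ Coh69.HE (UnitsSh.unitsAb Y) 1 (⊤ : Y.Opens) :=
    QuotientAddGroup.lift (imTop Y) (delta hSY ⊤) fun s hs => (delta_eq_zero_iff hSY ⊤ s).2 hs
  have hdY : Function.Bijective dY := by
    refine ⟨(injective_iff_map_eq_zero dY).2 fun z hz => ?_, fun y => ?_⟩
    · obtain ⟨s, rfl⟩ := QuotientAddGroup.mk'_surjective (imTop Y) z
      exact (QuotientAddGroup.eq_zero_iff s).2 ((delta_eq_zero_iff hSY ⊤ s).1 hz)
    · obtain ⟨s, rfl⟩ := delta_surjective hSY ⊤ y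
      exact ⟨QuotientAddGroup.mk' _ s, rfl⟩
  let dT : Qsec X ⊤ →+ Coh69.HE ((CohTop.push i.base).obj (UnitsSh.unitsAb X)) 1 (⊤ : Y.Opens) :=
    delta hT (⊤ : Y.Opens)
  have hdT : ∀ s, dT s = 0 ↔ s ∈ imTop X := fun s => delta_eq_zero_iff hT (⊤ : Y.Opens) s
  let dX := QuotientAddGroup.lift (imTop X) dT fun s hs => (hdT s).2 hs
  have hdX : Function.Injective dX := (injective_iff_map_eq_zero dX).2 fun z hz => by
    obtain ⟨s, rfl⟩ := QuotientAddGroup.mk'_surjective (imTop X) z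
    exact (QuotientAddGroup.eq_zero_iff s).2 ((hdT s).1 hz)
  refine ⟨AddEquiv.ofBijective (dY.comp PY) (hdY.comp hPY), dX.comp PX, hdX.comp hPX.1, fun c => ?_⟩
  let τ₂ : (ses Y).X₂ ⟶ (pushSES i).X₂ :=
    Injective.factorThru (UnitsSh.comap i ≫ (pushSES i).f) (ses Y).f
  have hτ₂ : (ses Y).f ≫ τ₂ = UnitsSh.comap i ≫ (pushSES i).f := Injective.comp_factorThru _ _
  let τ₃ : (ses Y).X₃ ⟶ (pushSES i).X₃ := cokernel.desc _ (τ₂ ≫ (pushSES i).g) (by
    show (ses Y).f ≫ τ₂ ≫ (pushSES i).g = 0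
    rw [reassoc_of% hτ₂, (pushSES i).zero, comp_zero])
  let ψ : ses Y ⟶ pushSES i :=
    { τ₁ := UnitsSh.comap i, τ₂ := τ₂, τ₃ := τ₃, comm₁₂ := hτ₂.symm, comm₂₃ := (cokernel.π_desc _ _ _).symm }
  obtain ⟨L, hL, hc⟩ := PicGrp.exists_eq_cls c.toMul
  obtain ⟨q, hq⟩ := exists_rel hL
  have hc' : c = Additive.ofMul (PicGrp.cls L hL) := Additive.toMul.injective hc
  obtain ⟨hL', hpull⟩ : ∃ h : PicF.IsInvertible ((Scheme.Modules.pullback i).obj L),
      PicGrp.pullHom i hi (PicGrp.cls L hL) = PicGrp.cls _ h :=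
    ⟨Amp73.isInvertible_pullback i hL, PicGrp.pullHom_cls i hi L hL⟩
  subst hc'
  show dX (PX (Additive.ofMul (PicGrp.pullHom i hi (PicGrp.cls L hL)))) =
    hmap (UnitsSh.comap i) 1 ⊤ (dY (PY (Additive.ofMul (PicGrp.cls L hL))))
  rw [hpull, hPXr _ hL' _ (rel_pullback i ψ rfl hL hq), hPYr L hL q hq]
  exact delta_natural hSY hT ψ (⊤ : Y.Opens) q

end Groth.Agent.UnitsLES64
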